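import Mathlib
import Groth.Agent.FlatSpread.Fp

/-! Flat algebras of finite type that are locally of finite presentation. -/

set_option autoImplicit false
set_option linter.style.haveILetI false

universe u

open TensorProduct

attribute [local instance] MvPolynomial.algebraMvPolynomial

namespace Groth.Agent.FlatFP

variable {R S : Type u} [CommRing R] [CommRing S] [Algebra R S] {n : ℕ} (π : MvPolynomial (Fin n) R →ₐ[R] S)

/-- At a prime where the algebra is finitely presented, finitely many relations suffice. -/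
theorem exists_fg_at (hπ : Function.Surjective π) (p : Ideal R) [p.IsPrime]
    [Algebra.FinitePresentation (Localization.AtPrime p) (Localization (Algebra.algebraMapSubmonoid S p.primeCompl))] :
    ∃ J : Ideal (MvPolynomial (Fin n) R), J.FG ∧ J ≤ RingHom.ker π ∧
      ∀ x, π x = 0 → ∃ t, t ∉ p ∧ MvPolynomial.C t * x ∈ J := by
  classical
  let Sp := Localization (Algebra.algebraMapSubmonoid S p.primeCompl)
  let Rp := Localization.AtPrime p
  let Pp := MvPolynomial (Fin n) Rp
  let M : Submonoid (MvPolynomial (Fin n) R) := p.primeCompl.map (MvPolynomial.C (σ := Fin n))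
  let ι : MvPolynomial (Fin n) R →+* Pp := algebraMap (MvPolynomial (Fin n) R) Pp
  have hι : ι = MvPolynomial.map (algebraMap R Rp) := rfl
  haveI : IsLocalization M Pp := MvPolynomial.isLocalization p.primeCompl Rp
  let φ : Pp →ₐ[Rp] Sp := MvPolynomial.aeval fun i => algebraMap S Sp (π (MvPolynomial.X i))
  have hφ : ∀ a, φ (ι a) = algebraMap S Sp (π a) := by
    intro a
    have : φ.toRingHom.comp ι = (algebraMap S Sp).comp π.toRingHom := MvPolynomial.ringHom_ext
      (fun r => by
        show φ (MvPolynomial.map (algebraMap R Rp) (MvPolynomial.C r)) = algebraMap S Sp (π (MvPolynomial.C r))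
        rw [MvPolynomial.map_C, show π (MvPolynomial.C r) = algebraMap R S r from π.commutes r,
          show φ (MvPolynomial.C (algebraMap R Rp r)) = algebraMap Rp Sp (algebraMap R Rp r) from φ.commutes _]
        exact (IsScalarTower.algebraMap_apply R Rp Sp r).symm.trans (IsScalarTower.algebraMap_apply R S Sp r))
      (fun i => by
        show φ (MvPolynomial.map (algebraMap R Rp) (MvPolynomial.X i)) = algebraMap S Sp (π (MvPolynomial.X i))
        rw [MvPolynomial.map_X]
        exact MvPolynomial.aeval_X _ _)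
    exact congr($this a)
  have hker : RingHom.ker φ = (RingHom.ker π).map ι := by
    refine le_antisymm (fun z hz => ?_) (Ideal.map_le_iff_le_comap.2 fun a ha => ?_)
    · obtain ⟨⟨a, m⟩, hm⟩ := IsLocalization.surj M z
      have h0 : algebraMap S Sp (π a) = 0 := by
        rw [← hφ, ← hm, map_mul, RingHom.mem_ker.1 hz, zero_mul]
      obtain ⟨⟨_, t, ht, rfl⟩, htz⟩ := (IsLocalization.map_eq_zero_iff (Algebra.algebraMapSubmonoid S p.primeCompl) Sp _).1 h0
      have hmem : MvPolynomial.C t * a ∈ RingHom.ker π := RingHom.mem_ker.2 (by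
        rw [map_mul, show π (MvPolynomial.C t) = algebraMap R S t from π.commutes t]; exact htz)
      have hu : IsUnit (ι (MvPolynomial.C t * (m : MvPolynomial (Fin n) R))) :=
        IsLocalization.map_units Pp (⟨_, mul_mem ⟨t, ht, rfl⟩ m.2⟩ : M)
      refine (Ideal.unit_mul_mem_iff_mem _ hu).1 ?_
      rw [map_mul, mul_assoc, mul_comm (ι (m : MvPolynomial (Fin n) R)), hm, ← map_mul]
      exact Ideal.mem_map_of_mem _ hmem
    · show φ (ι a) = 0
      rw [hφ, RingHom.mem_ker.1 ha, map_zero]
  have hsurj : Function.Surjective φ := fun z => by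
    obtain ⟨⟨x, ⟨_, t, ht, rfl⟩⟩, hx⟩ := IsLocalization.surj (Algebra.algebraMapSubmonoid S p.primeCompl) z
    obtain ⟨a, rfl⟩ := hπ x
    refine ⟨MvPolynomial.C (IsLocalization.mk' Rp 1 ⟨t, ht⟩) * ι a, ?_⟩
    rw [map_mul, hφ, ← hx, show φ (MvPolynomial.C _) = algebraMap Rp Sp _ from φ.commutes _, mul_comm z, ← mul_assoc]
    dsimp only
    rw [← IsScalarTower.algebraMap_apply R S Sp, IsScalarTower.algebraMap_apply R Rp Sp, ← map_mul,
      IsLocalization.mk'_spec, map_one, map_one, one_mul]
  have hfg : ((RingHom.ker π).map ι).FG := hker ▸ Algebra.FinitePresentation.ker_fG_of_surjective φ hsurj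
  obtain ⟨G, hG⟩ := hfg
  have hGi : ∀ g ∈ G, ∃ a : MvPolynomial (Fin n) R, π a = 0 ∧ ∃ m : M, g * ι m = ι a := fun g hg => by
    obtain ⟨⟨a, m⟩, h⟩ := (IsLocalization.mem_map_algebraMap_iff M Pp).1
      (show g ∈ (RingHom.ker π).map ι from hG ▸ Ideal.subset_span hg)
    exact ⟨a.1, RingHom.mem_ker.1 a.2, m, h⟩
  choose a ha m hm using hGi
  let J : Ideal (MvPolynomial (Fin n) R) := Ideal.span (Finset.univ.image fun g : G => a g.1 g.2 : Finset _)
  refine ⟨J, ⟨_, rfl⟩, Ideal.span_le.2 ?_, fun x hx => ?_⟩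
  · intro b hb
    obtain ⟨g, -, rfl⟩ := Finset.mem_image.1 hb
    exact ha g.1 g.2
  · have hle : (RingHom.ker π).map ι ≤ J.map ι := by
      rw [← hG]
      refine Submodule.span_le.2 fun g hg => (Ideal.mul_unit_mem_iff_mem _ (IsLocalization.map_units Pp (m g hg))).1 ?_
      rw [hm g hg]
      exact Ideal.mem_map_of_mem _ (Ideal.subset_span (Finset.mem_coe.2 (Finset.mem_image.2 ⟨⟨g, hg⟩, Finset.mem_univ _, rfl⟩)))
    obtain ⟨_, ⟨t, ht, rfl⟩, h⟩ := (IsLocalization.algebraMap_mem_map_algebraMap_iff M Pp J x).1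
      (hle (Ideal.mem_map_of_mem _ (RingHom.mem_ker.2 hx)))
    exact ⟨t, ht, h⟩

/-- Flatness at a prime where the kernel to a flat algebra dies. -/
theorem flat_at {A : Type u} [CommRing A] [Algebra R A] [Module.Flat R S] (ρ : A →ₐ[R] S)
    (hρ : Function.Surjective ρ) (P : Ideal A) [P.IsPrime] (hK : ∀ y, ρ y = 0 → ∃ t ∉ P, t * y = 0) :
    Module.Flat R (Localization.AtPrime P) := by
  have hle : RingHom.ker ρ.toRingHom ≤ P := fun y hy => by
    obtain ⟨t, ht, hty⟩ := hK y hy
    exact ((Ideal.IsPrime.mem_or_mem ‹_› (hty ▸ P.zero_mem))).resolve_left ht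
  haveI : (P.map ρ.toRingHom).IsPrime := Ideal.map_isPrime_of_surjective hρ hle
  have hP : P = (P.map ρ.toRingHom).comap ρ.toRingHom := by
    exact ((Ideal.comap_map_of_surjective' ρ.toRingHom hρ P).trans (sup_eq_left.2 hle)).symm
  let P' := P.map ρ.toRingHom
  let Φ := Localization.localRingHom P P' ρ.toRingHom hP
  have hΦ : Function.Bijective Φ := by
    refine ⟨(injective_iff_map_eq_zero Φ).2 fun z hz => ?_, fun z => ?_⟩
    · obtain ⟨y, s, rfl⟩ := IsLocalization.exists_mk'_eq P.primeCompl z
      rw [Localization.localRingHom_mk', IsLocalization.mk'_eq_zero_iff] at hz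
      obtain ⟨⟨m, hm⟩, hmy⟩ := hz
      obtain ⟨m, rfl⟩ := hρ m
      obtain ⟨t, ht, hty⟩ := hK (m * y) (by rw [map_mul]; exact hmy)
      rw [IsLocalization.mk'_eq_zero_iff]
      exact ⟨⟨t * m, fun h => (‹P.IsPrime›.mem_or_mem h).elim ht fun h' => hm (Ideal.mem_map_of_mem _ h')⟩,
        by rw [mul_assoc]; exact hty⟩
    · obtain ⟨x, ⟨s, hs⟩, rfl⟩ := IsLocalization.exists_mk'_eq P'.primeCompl z
      obtain ⟨x, rfl⟩ := hρ x
      obtain ⟨s, rfl⟩ := hρ s
      exact ⟨IsLocalization.mk' _ x (⟨s, fun h => hs (Ideal.mem_map_of_mem _ h)⟩ : P.primeCompl),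
        Localization.localRingHom_mk' _ _ _ _ _ _⟩
  haveI : Module.Flat S (Localization.AtPrime P') := IsLocalization.flat _ P'.primeCompl
  haveI : Module.Flat R (Localization.AtPrime P') := Module.Flat.trans R S _
  have hc : ∀ r, Φ (algebraMap R (Localization.AtPrime P) r) = algebraMap R (Localization.AtPrime P') r := fun r => by
    rw [IsScalarTower.algebraMap_apply R A (Localization.AtPrime P), Localization.localRingHom_to_map,
      AlgHom.toRingHom_eq_coe, RingHom.coe_coe, ρ.commutes, ← IsScalarTower.algebraMap_apply]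
  exact Module.Flat.of_linearEquiv (AlgEquiv.ofBijective ({ Φ with commutes' := hc } :
    Localization.AtPrime P →ₐ[R] Localization.AtPrime P') hΦ).toLinearEquiv

theorem finitePresentation [Algebra.FiniteType R S] [Module.Flat R S] (s : Finset (PrimeSpectrum R))
    (hs : Function.Injective fun r : R => fun p : s => algebraMap R (Localization.AtPrime p.1.asIdeal) r)
    (hloc : ∀ (p : Ideal R) [p.IsPrime],
      Algebra.FinitePresentation (Localization.AtPrime p) (Localization (Algebra.algebraMapSubmonoid S p.primeCompl))) :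
    Algebra.FinitePresentation R S := by
  classical
  obtain ⟨n, π, hπ⟩ := Algebra.FiniteType.iff_quotient_mvPolynomial''.1 ‹Algebra.FiniteType R S›
  have hJ : ∀ q : PrimeSpectrum R, ∃ J : Ideal (MvPolynomial (Fin n) R), J.FG ∧ J ≤ RingHom.ker π ∧
      ∀ x, π x = 0 → ∃ t, t ∉ q.asIdeal ∧ MvPolynomial.C t * x ∈ J := fun q => by
    haveI := hloc q.asIdeal
    exact exists_fg_at π hπ q.asIdeal
  choose J hJfg hJle hJx using hJ
  have main : ∀ q : PrimeSpectrum R, ∃ g ∉ q.asIdeal, ∀ x, π x = 0 →
      ∃ m : ℕ, MvPolynomial.C (g ^ m) * x ∈ J q ⊔ s.sup J := by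
    intro q
    let Jq := J q ⊔ s.sup J
    have hJqfg : Jq.FG := Submodule.FG.sup (hJfg q) (Submodule.fg_finset_sup _ _ fun i _ => hJfg i)
    let A := MvPolynomial (Fin n) R ⧸ Jq
    haveI : Algebra.FinitePresentation R A := Algebra.FinitePresentation.quotient hJqfg
    let ρ : A →ₐ[R] S := Ideal.Quotient.liftₐ Jq π fun a ha =>
      RingHom.mem_ker.1 ((sup_le (hJle q) (Finset.sup_le fun i _ => hJle i) : Jq ≤ _) ha)
    have hρ : Function.Surjective ρ := fun z => by
      obtain ⟨a, rfl⟩ := hπ z
      exact ⟨Ideal.Quotient.mk Jq a, rfl⟩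
    have hK : ∀ p : PrimeSpectrum R, J p ≤ Jq → ∀ y, ρ y = 0 → ∃ t ∉ p.asIdeal, algebraMap R A t * y = 0 := by
      intro p hp y hy
      obtain ⟨y, rfl⟩ := Ideal.Quotient.mk_surjective y
      obtain ⟨t, ht, h⟩ := hJx p y hy
      exact ⟨t, ht, Ideal.Quotient.eq_zero_iff_mem.2 (hp h)⟩
    have hopen := (FlatSpread.isOpen_flatLocus (R := R) (S := A) (M := A)).isClosed_compl
    obtain ⟨H, hH⟩ := (PrimeSpectrum.isClosed_iff_zeroLocus_ideal _).1 hopen
    have hflat : ∀ P : PrimeSpectrum A, ¬ H ≤ P.asIdeal → Module.Flat R (Localization.AtPrime P.asIdeal) := by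
      intro P hP
      by_contra h
      apply hP
      rw [← SetLike.coe_subset_coe]
      have hmem : P ∈ PrimeSpectrum.zeroLocus (H : Set A) := by
        rw [← hH]
        exact fun hf => h (haveI : Module.Flat R (LocalizedModule P.asIdeal.primeCompl A) := hf
          Module.Flat.of_linearEquiv ((IsLocalizedModule.iso P.asIdeal.primeCompl
            (Algebra.linearMap A (Localization.AtPrime P.asIdeal))).restrictScalars R).symm)
      exact hmem
    obtain ⟨g, hg, hgH⟩ : ∃ g ∉ q.asIdeal, algebraMap R A g ∈ H := by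
      by_contra hne
      obtain ⟨P, hP, hHP, hdisj⟩ := Ideal.exists_le_prime_disjoint H (Algebra.algebraMapSubmonoid A q.asIdeal.primeCompl)
        (Set.disjoint_left.2 fun x hx => by
          rintro ⟨g, hg, rfl⟩
          exact hne ⟨g, hg, hx⟩)
      have hmem : (⟨P, hP⟩ : PrimeSpectrum A) ∈ PrimeSpectrum.zeroLocus (H : Set A) := hHP
      rw [← hH] at hmem
      apply hmem
      haveI : Module.Flat R (Localization.AtPrime P) := flat_at ρ hρ P fun y hy => by
        obtain ⟨t, ht, hty⟩ := hK q le_sup_left y hy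
        exact ⟨_, fun h => Set.disjoint_left.1 hdisj h ⟨t, ht, rfl⟩, hty⟩
      exact Module.Flat.of_linearEquiv ((IsLocalizedModule.iso P.primeCompl
        (Algebra.linearMap A (Localization.AtPrime P))).restrictScalars R)
    refine ⟨g, hg, fun x hx => ?_⟩
    let y : A := Ideal.Quotient.mk Jq x
    have hy : ρ y = 0 := hx
    have hrad : algebraMap R A g ∈ (Submodule.colon (⊥ : Ideal A) {y}).radical := by
      rw [Ideal.radical_eq_sInf]
      refine Submodule.mem_sInf.2 fun (P : Ideal A) hP' => ?_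
      obtain ⟨hann, hP⟩ := hP'
      by_contra hgP
      haveI := hP
      haveI := hflat ⟨P, hP⟩ fun h => hgP (h hgH)
      let N := Localization.AtPrime P
      let d : R →ₗ[R] ((p : s) → Localization.AtPrime p.1.asIdeal) := LinearMap.pi fun p => Algebra.linearMap R (Localization.AtPrime p.1.asIdeal)
      have hd : Function.Injective (d.lTensor N) := Module.Flat.lTensor_preserves_injective_linearMap d hs
      have h0 : algebraMap A N y ⊗ₜ[R] (1 : R) = 0 := by
        apply hd
        rw [map_zero, LinearMap.lTensor_tmul]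
        apply (TensorProduct.piRight R R N (fun p : s => Localization.AtPrime p.1.asIdeal)).injective
        funext p
        rw [map_zero, Pi.zero_apply, TensorProduct.piRight_apply, TensorProduct.piRightHom_tmul]
        obtain ⟨t, ht, hty⟩ := hK p.1 ((Finset.le_sup p.2).trans le_sup_right) y hy
        have hu : d 1 p = t • IsLocalization.mk' (Localization.AtPrime p.1.asIdeal) (1 : R) (⟨t, ht⟩ : p.1.asIdeal.primeCompl) := by
          rw [Algebra.smul_def]
          exact ((IsLocalization.mk'_spec' (Localization.AtPrime p.1.asIdeal) (1 : R) (⟨t, ht⟩ : p.1.asIdeal.primeCompl))).symm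
        show algebraMap A N y ⊗ₜ[R] d 1 p = 0
        rw [hu, ← TensorProduct.smul_tmul, Algebra.smul_def, IsScalarTower.algebraMap_apply R A N, ← map_mul, hty, map_zero,
          TensorProduct.zero_tmul]
      have hy0 : algebraMap A N y = 0 := by simpa using congrArg (TensorProduct.rid R N) h0
      obtain ⟨⟨t, ht⟩, hty⟩ := (IsLocalization.map_eq_zero_iff P.primeCompl N y).1 hy0
      exact ht (hann (Submodule.mem_colon_singleton.2 ((Submodule.mem_bot _).2 hty)))
    obtain ⟨m, hm⟩ := hrad
    refine ⟨m, Ideal.Quotient.eq_zero_iff_mem.1 ?_⟩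
    rw [Submodule.mem_colon_singleton, Submodule.mem_bot, smul_eq_mul, ← map_pow] at hm
    exact hm
  choose g hg hgx using main
  have htop : Ideal.span (Set.range g) = ⊤ := by
    by_contra h
    obtain ⟨P, hP, hle⟩ := Ideal.exists_le_maximal _ h
    exact hg ⟨P, hP.isPrime⟩ (hle (Ideal.subset_span ⟨_, rfl⟩))
  obtain ⟨T, hTsub, hT⟩ := (Ideal.span_eq_top_iff_finite _).1 htop
  choose q hq using fun t : T => hTsub t.2
  let J' := Finset.univ.sup (fun t : T => J (q t) ⊔ s.sup J)
  refine Algebra.FinitePresentation.of_surjective hπ (?_ : (RingHom.ker π).FG)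
  suffices RingHom.ker π = J' by
    rw [this]
    exact Submodule.fg_finset_sup _ _ fun t _ => Submodule.FG.sup (hJfg _) (Submodule.fg_finset_sup _ _ fun i _ => hJfg i)
  refine le_antisymm (fun x hx => ?_) (Finset.sup_le fun t _ => sup_le (hJle _) (Finset.sup_le fun i _ => hJle i))
  choose m hm using fun t : T => hgx (q t) x (RingHom.mem_ker.1 hx)
  have h1 : Ideal.span (Set.range fun t : T => t.1 ^ m t) = ⊤ :=
    Ideal.span_range_pow_eq_top (T : Set R) hT (fun t => m t)
  have h2 : (Ideal.span (Set.range fun t : T => t.1 ^ m t)).map (MvPolynomial.C (σ := Fin n)) = ⊤ := by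
    rw [h1, Ideal.map_top]
  have h3 : ∀ z ∈ (Ideal.span (Set.range fun t : T => t.1 ^ m t)).map (MvPolynomial.C (σ := Fin n)), z * x ∈ J' := by
    intro z hz
    rw [Ideal.map_span, ← Set.range_comp] at hz
    induction hz using Submodule.span_induction with
    | mem z hz =>
      obtain ⟨t, rfl⟩ := hz
      have := Finset.le_sup (f := fun t : T => J (q t) ⊔ s.sup J) (Finset.mem_univ t) (hm t)
      show MvPolynomial.C (t.1 ^ m t) * x ∈ J'
      rw [← hq t]; exact this
    | zero => simp
    | add a b _ _ ha hb => rw [add_mul]; exact add_mem ha hb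
    | smul c a _ ha => rw [smul_eq_mul, mul_assoc]; exact Ideal.mul_mem_left _ _ ha
  simpa using h3 1 (h2 ▸ Submodule.mem_top)

end Groth.Agent.FlatFP
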